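import Mathlib
import Cfsg.Agent.Lib.Helper92.TWDef

/-! Two more definitions for the Thompson-Wielandt ladder. -/

set_option autoImplicit false

namespace Cfsg.Agent.Lib.Helper92

variable {G : Type*} [Group G]

/-- subgroup generated by the `p'`-elements of `B` -/
def pPrimeGen (p : ℕ) (B : Subgroup G) : Subgroup G :=
  Subgroup.closure {y | y ∈ B ∧ (orderOf y).Coprime p}

/-- core of `Y` in `M`, as a subgroup of `G` -/
def coreIn (M Y : Subgroup G) : Subgroup G := ((Y.subgroupOf M).normalCore).map M.subtype

end Cfsg.Agent.Lib.Helper92
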