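import Mathlib
import Cfsg.Agent.Lib.Helper92.TW.Defs

/-! Thompson-Wielandt ladder, rung ACT: from a faithful primitive action to two core-free
maximal subgroups. -/

set_option autoImplicit false

namespace Cfsg.Agent.Lib.Helper92

open Cfsg.Agent.Lib.Helper28

open scoped Nat

variable {G : Type*} [Group G] {M N A₁ B₁ A₂ B₂ : Subgroup G}

theorem normalCore_stabilizer_eq_bot {Ω : Type*} [MulAction G Ω] [FaithfulSMul G Ω]
    [MulAction.IsPretransitive G Ω] (a : Ω) : (MulAction.stabilizer G a).normalCore = ⊥ := by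
  rw [eq_bot_iff]
  intro x hx
  rw [Subgroup.mem_bot]
  apply FaithfulSMul.eq_of_smul_eq_smul (α := Ω)
  intro c
  obtain ⟨g, rfl⟩ := MulAction.exists_smul_eq G a c
  have h := hx g⁻¹
  rw [MulAction.mem_stabilizer_iff] at h
  rw [one_smul]
  have h2 : g • ((g⁻¹ * x * g⁻¹⁻¹) • a) = g • a := by rw [h]
  rw [smul_smul] at h2
  rw [smul_smul]
  simpa [mul_assoc] using h2

theorem relIndex_stabilizer_inf {Ω : Type*} [MulAction G Ω] (a b : Ω) :
    (MulAction.stabilizer G a ⊓ MulAction.stabilizer G b).relIndex (MulAction.stabilizer G a) =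
      Nat.card (MulAction.orbit (MulAction.stabilizer G a) b) := by
  rw [Subgroup.inf_relIndex_left, Nat.card_coe_set_eq, ← MulAction.index_stabilizer]
  unfold Subgroup.relIndex
  congr 1

theorem exists_of_action {Ω : Type*} [Finite G] [MulAction G Ω] [FaithfulSMul G Ω] [Finite Ω]
    (hprim : MulAction.IsPreprimitive G Ω) (a b : Ω) (d : ℕ)
    (hd : Nat.card (MulAction.orbit (MulAction.stabilizer G a) b) = d) (h2 : 2 ≤ d) :
    IsCoatom (MulAction.stabilizer G a) ∧ IsCoatom (MulAction.stabilizer G b) ∧
      MulAction.stabilizer G a ≠ MulAction.stabilizer G b ∧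
      (MulAction.stabilizer G a).normalCore = ⊥ ∧ (MulAction.stabilizer G b).normalCore = ⊥ ∧
      (∃ g : G, MulAction.stabilizer G b =
        (MulAction.stabilizer G a).map (MulAut.conj g).toMonoidHom) ∧
      (MulAction.stabilizer G a ⊓ MulAction.stabilizer G b).relIndex (MulAction.stabilizer G a)
        = d ∧
      (MulAction.stabilizer G a ⊓ MulAction.stabilizer G b).relIndex (MulAction.stabilizer G b)
        = d := by
  have hne : MulAction.stabilizer G a ≠ MulAction.stabilizer G b := by
    intro h
    have h1 := relIndex_stabilizer_inf (G := G) a b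
    rw [hd, ← h, inf_idem, Subgroup.relIndex_self] at h1
    omega
  have hab : a ≠ b := fun h => hne (by rw [h])
  have : Nontrivial Ω := ⟨a, b, hab⟩
  obtain ⟨g, hg⟩ := MulAction.exists_smul_eq G a b
  have hconj : MulAction.stabilizer G b =
      (MulAction.stabilizer G a).map (MulAut.conj g).toMonoidHom := by
    rw [← hg, MulAction.stabilizer_smul_eq_stabilizer_map_conj]
  have hM : (MulAction.stabilizer G a ⊓ MulAction.stabilizer G b).relIndex
      (MulAction.stabilizer G a) = d := by
    rw [relIndex_stabilizer_inf, hd]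
  have hcard : Nat.card (MulAction.stabilizer G b) = Nat.card (MulAction.stabilizer G a) := by
    rw [hconj]
    exact Subgroup.card_map_of_injective (MulAut.conj g).injective
  refine ⟨MulAction.IsPreprimitive.isCoatom_stabilizer_of_isPreprimitive G a,
    MulAction.IsPreprimitive.isCoatom_stabilizer_of_isPreprimitive G b, hne,
    normalCore_stabilizer_eq_bot a, normalCore_stabilizer_eq_bot b, ⟨g, hconj⟩, hM, ?_⟩
  have e1 := Subgroup.relIndex_mul_relIndex ⊥
    (MulAction.stabilizer G a ⊓ MulAction.stabilizer G b) (MulAction.stabilizer G a)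
    bot_le inf_le_left
  have e2 := Subgroup.relIndex_mul_relIndex ⊥
    (MulAction.stabilizer G a ⊓ MulAction.stabilizer G b) (MulAction.stabilizer G b)
    bot_le inf_le_right
  rw [Subgroup.relIndex_bot_left, Subgroup.relIndex_bot_left] at e1 e2
  rw [hcard, ← e1, hM] at e2
  exact Nat.eq_of_mul_eq_mul_left Nat.card_pos e2

end Cfsg.Agent.Lib.Helper92
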