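import Mathlib
import Cfsg.Agent.Lib.Helper92.TW.Defs

/-! Thompson-Wielandt ladder, rung CORE: membership in `coreIn`, the configuration attached to
two core-free maximal subgroups, and invariance of `|O_p|` under conjugation. -/

set_option autoImplicit false

namespace Cfsg.Agent.Lib.Helper92

open Cfsg.Agent.Lib.Helper28

open scoped Nat

variable {G : Type*} [Group G] {M N A₁ B₁ A₂ B₂ : Subgroup G}

theorem mem_coreIn {M Y : Subgroup G} (x : G) :
    x ∈ coreIn M Y ↔ x ∈ M ∧ ∀ m ∈ M, m * x * m⁻¹ ∈ Y := by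
  unfold coreIn
  constructor
  · rintro ⟨⟨y, hy⟩, hyc, rfl⟩
    refine ⟨hy, fun m hm => ?_⟩
    have := hyc ⟨m, hm⟩
    simpa [Subgroup.mem_subgroupOf] using this
  · rintro ⟨hx, h⟩
    refine ⟨⟨x, hx⟩, ?_, rfl⟩
    intro m
    have := h m.1 m.2
    simpa [Subgroup.mem_subgroupOf] using this

theorem prim_of_isCoatom {M : Subgroup G} (hM : IsCoatom M) (hcM : M.normalCore = ⊥)
    (X : Subgroup G) (hX : X ≠ ⊥) (hXM : X ≤ M) (hn : M ≤ Subgroup.normalizer (X : Set G)) :
    Subgroup.normalizer (X : Set G) ≤ M := by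
  rcases eq_or_lt_of_le hn with h | h
  · exact h.ge
  · exfalso
    have htop := hM.2 _ h
    have hnorm : X.Normal := Subgroup.normalizer_eq_top_iff.mp htop
    have : X ≤ M.normalCore := Subgroup.normal_le_normalCore.mpr hXM
    rw [hcM] at this
    exact hX (le_bot_iff.mp this)

theorem TW.of_isCoatom {M N : Subgroup G} (hM : IsCoatom M) (hN : IsCoatom N) (hne : M ≠ N)
    (hcM : M.normalCore = ⊥) (hcN : N.normalCore = ⊥) :
    TW M N (coreIn M (M ⊓ N)) (coreIn N (M ⊓ N))
      (coreIn M (coreIn M (M ⊓ N) ⊓ coreIn N (M ⊓ N)))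
      (coreIn N (coreIn M (M ⊓ N) ⊓ coreIn N (M ⊓ N))) where
  primM := prim_of_isCoatom hM hcM
  primN := prim_of_isCoatom hN hcN
  nleM := fun h => by
    rcases eq_or_lt_of_le h with h' | h'
    · exact hne h'.symm
    · exact hM.1 (hN.2 _ h')
  nleN := fun h => by
    rcases eq_or_lt_of_le h with h' | h'
    · exact hne h'
    · exact hN.1 (hM.2 _ h')
  memA₁ := fun x => by
    rw [mem_coreIn]
    constructor
    · rintro ⟨hx, h⟩
      exact ⟨hx, fun m hm => (h m hm).2⟩
    · rintro ⟨hx, h⟩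
      exact ⟨hx, fun m hm => ⟨M.mul_mem (M.mul_mem hm hx) (M.inv_mem hm), h m hm⟩⟩
  memB₁ := fun x => by
    rw [mem_coreIn]
    constructor
    · rintro ⟨hx, h⟩
      exact ⟨hx, fun m hm => (h m hm).1⟩
    · rintro ⟨hx, h⟩
      exact ⟨hx, fun m hm => ⟨h m hm, N.mul_mem (N.mul_mem hm hx) (N.inv_mem hm)⟩⟩
  memA₂ := fun x => mem_coreIn x
  memB₂ := fun x => mem_coreIn x

theorem card_opIn_conj (p : ℕ) (M : Subgroup G) (g : G) :
    Nat.card (opIn p (M.map (MulAut.conj g).toMonoidHom)) = Nat.card (opIn p M) := by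
  unfold opIn
  rw [Subgroup.card_map_of_injective (Subgroup.subtype_injective _),
    Subgroup.card_map_of_injective (Subgroup.subtype_injective _)]
  have e : ↥M ≃* ↥(M.map (MulAut.conj g).toMonoidHom) :=
    M.equivMapOfInjective _ (MulAut.conj g).injective
  rw [← pCore_map_equiv p e]
  exact Subgroup.card_map_of_injective e.injective

end Cfsg.Agent.Lib.Helper92
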