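import Mathlib
import Cfsg.Agent.Lib.Helper92.TW.Defs

/-! Thompson-Wielandt ladder, rung E0: no components. -/

set_option autoImplicit false

namespace Cfsg.Agent.Lib.Helper92

open Cfsg.Agent.Lib.Helper28
open scoped Nat

variable {G : Type*} [Group G] {M N A₁ B₁ A₂ B₂ : Subgroup G}

theorem commute_of_commutator_eq_bot {H K : Subgroup G} (h : ⁅H, K⁆ = ⊥) {x y : G} (hx : x ∈ H)
    (hy : y ∈ K) : x * y = y * x := by
  have h1 := Subgroup.commutator_eq_bot_iff_le_centralizer.mp h hx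
  rw [Subgroup.mem_centralizer_iff] at h1
  exact (h1 y hy).symm

theorem TW.layIn_le_A₁ [Finite G] (h : TW M N A₁ B₁ A₂ B₂) (hB : B₂ ≠ ⊥) : layIn M ≤ A₁ := by
  apply h.le_A₁ (Cfsg.Agent.Lib.Helper28.layIn_le M) _ (le_normalizer_layIn M)
  refine layIn_le_of_forall fun K hK => ?_
  rcases hK.le_or_commutator_eq_bot h.A₁_le_M h.M_le_normalizer_A₁ with h1 | h1
  · exact h1.trans h.A₁_le_N
  · intro y hy
    exact h.mem_N_of_commute hB h.B₂_le_N h.N_le_normalizer_B₂ fun x hx =>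
      commute_of_commutator_eq_bot h1 hy (h.B₂_le_A₁ hx)

theorem TW.layIn_le [Finite G] (h : TW M N A₁ B₁ A₂ B₂) (hA : A₂ ≠ ⊥) (hB : B₂ ≠ ⊥) :
    layIn M ≤ layIn N := by
  refine layIn_le_of_forall fun K hK => ?_
  have hKA : K ≤ A₁ := hK.le_layIn.trans (h.layIn_le_A₁ hB)
  have hKA' : IsCompIn K A₁ := hK.of_le hKA h.A₁_le_M
  have hAB : A₁ ≤ Subgroup.normalizer (B₁ : Set G) := h.A₁_le_N.trans h.N_le_normalizer_B₁
  have hBA : B₁ ≤ Subgroup.normalizer (A₁ : Set G) := h.B₁_le_M.trans h.M_le_normalizer_A₁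
  have hAL : A₁ ≤ Subgroup.normalizer ((A₁ ⊓ B₁ : Subgroup G) : Set G) :=
    le_normalizer_inf' Subgroup.le_normalizer hAB
  have hBL : B₁ ≤ Subgroup.normalizer ((A₁ ⊓ B₁ : Subgroup G) : Set G) :=
    le_normalizer_inf' hBA Subgroup.le_normalizer
  have hKL : K ≤ A₁ ⊓ B₁ := by
    rcases hKA'.le_or_commutator_eq_bot inf_le_left hAL with h1 | h1
    · exact h1
    · exfalso
      have h2 : ⁅B₁, K⁆ ≤ A₁ ⊓ B₁ := by
        refine (Subgroup.commutator_mono le_rfl hKA).trans (le_inf ?_ ?_)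
        · exact Subgroup.le_normalizer_iff_commutator_le_right.mp hBA
        · exact Subgroup.le_normalizer_iff_commutator_le_left.mp hAB
      have h3 : ⁅⁅B₁, K⁆, K⁆ = ⊥ := by
        rw [eq_bot_iff]
        refine (Subgroup.commutator_mono h2 le_rfl).trans ?_
        rw [Subgroup.commutator_comm, h1]
      have h4 : ⁅B₁, K⁆ = ⊥ := commutator_eq_bot_of_perfect hK.perfect h3
      have h5 : K ≤ B₁ := by
        intro y hy
        refine h.mem_B₁_of_commute hA h.A₂_le_M h.M_le_normalizer_A₂ (h.A₁_le_N (hKA hy))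
          fun n hn x hx => ?_
        exact (commute_of_commutator_eq_bot h4 (h.conj_mem_B₁ hn (h.A₂_le_B₁ hx)) hy).symm
      apply hK.ne_bot
      rw [← hK.perfect, eq_bot_iff, ← h4]
      exact Subgroup.commutator_mono h5 le_rfl
  have c1 : IsCompIn K (A₁ ⊓ B₁) := hKA'.of_le hKL inf_le_left
  have c2 : IsCompIn K B₁ := c1.of_normal inf_le_right hBL
  have c3 : IsCompIn K N := c2.of_normal h.B₁_le_N h.N_le_normalizer_B₁
  exact c3.le_layIn

theorem TW.layIn_eq_bot [Finite G] (h : TW M N A₁ B₁ A₂ B₂) (hA : A₂ ≠ ⊥) (hB : B₂ ≠ ⊥) :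
    layIn M = ⊥ := by
  have e : layIn M = layIn N := le_antisymm (h.layIn_le hA hB) (h.symm.layIn_le hB hA)
  by_contra hne
  exact h.contra hne (Cfsg.Agent.Lib.Helper28.layIn_le M) (le_normalizer_layIn M)
    (e ▸ le_normalizer_layIn N)

end Cfsg.Agent.Lib.Helper92
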