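import Mathlib
import Cfsg.Agent.Lib.Helper92.TW.Defs

/-! Thompson-Wielandt ladder, rung IDX1. -/

set_option autoImplicit false

namespace Cfsg.Agent.Lib.Helper92

open Cfsg.Agent.Lib.Helper28

open scoped Nat

variable {G : Type*} [Group G] {M N A₁ B₁ A₂ B₂ : Subgroup G}

theorem TW.relIndex_A₁_dvd [Finite G] (h : TW M N A₁ B₁ A₂ B₂) (d : ℕ)
    (hdM : (M ⊓ N).relIndex M = d) : A₁.relIndex M ∣ d ! := by
  have hcore : A₁.subgroupOf M = ((M ⊓ N).subgroupOf M).normalCore := by
    ext x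
    rw [Subgroup.mem_subgroupOf, h.memA₁]
    constructor
    · rintro ⟨_, hx⟩ m
      rw [Subgroup.mem_subgroupOf]
      exact Subgroup.mem_inf.2 ⟨(m * x * m⁻¹).2, by simpa using hx m m.2⟩
    · intro hx
      refine ⟨x.2, fun m hm => ?_⟩
      have := hx ⟨m, hm⟩
      rw [Subgroup.mem_subgroupOf] at this
      simpa using (Subgroup.mem_inf.1 this).2
  rw [Subgroup.relIndex, hcore, ← hdM, Subgroup.relIndex]
  rw [Subgroup.normalCore_eq_ker, Subgroup.index_ker, Subgroup.index_eq_card, ← Nat.card_perm]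
  exact Subgroup.card_subgroup_dvd_card _

end Cfsg.Agent.Lib.Helper92
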