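import Mathlib
import Cfsg.Agent.Lib.Helper92.TW.Defs

/-! Thompson-Wielandt ladder, rung IDX2. -/

set_option autoImplicit false

namespace Cfsg.Agent.Lib.Helper92

open Cfsg.Agent.Lib.Helper28

open scoped Nat

variable {G : Type*} [Group G] {M N A₁ B₁ A₂ B₂ : Subgroup G}

/-- the order of a point stabilizer in the full symmetric group -/
theorem card_stabilizer_perm_idx2 {α : Type*} [Finite α] (a : α) :
    Nat.card (MulAction.stabilizer (Equiv.Perm α) a) = (Nat.card α - 1)! := by
  have h1 := (MulAction.stabilizer (Equiv.Perm α) a).card_mul_index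
  rw [MulAction.index_stabilizer_of_transitive, Nat.card_perm] at h1
  have hpos : Nat.card α ≠ 0 := by
    have : Nonempty α := ⟨a⟩
    exact Nat.card_pos.ne'
  have h2 : (Nat.card α)! = Nat.card α * (Nat.card α - 1)! :=
    (Nat.mul_factorial_pred hpos).symm
  rw [h2, mul_comm] at h1
  exact Nat.eq_of_mul_eq_mul_left (Nat.pos_of_ne_zero hpos) h1

theorem TW.relIndex_inf_dvd [Finite G] (h : TW M N A₁ B₁ A₂ B₂) (d : ℕ)
    (hdN : (M ⊓ N).relIndex N = d) : (A₁ ⊓ B₁).relIndex A₁ ∣ (d - 1)! := by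
  set D : Subgroup ↥N := (M ⊓ N).subgroupOf N with hD
  let ff : ↥A₁ →* Equiv.Perm (↥N ⧸ D) :=
    (MulAction.toPermHom ↥N (↥N ⧸ D)).comp (Subgroup.inclusion h.A₁_le_N)
  have hker : ff.ker = (A₁ ⊓ B₁).subgroupOf A₁ := by
    ext x
    rw [MonoidHom.mem_ker, Subgroup.mem_subgroupOf]
    constructor
    · intro hx
      refine Subgroup.mem_inf.2 ⟨x.2, (h.memB₁ _).2 ⟨h.A₁_le_N x.2, fun n hn => ?_⟩⟩
      have h1 := congrArg (fun σ : Equiv.Perm (↥N ⧸ D) =>
        σ ((⟨n⁻¹, N.inv_mem hn⟩ : ↥N) : ↥N ⧸ D)) hx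
      simp only [ff, MonoidHom.comp_apply, MulAction.toPermHom_apply, MulAction.toPerm_apply,
        Equiv.Perm.coe_one, id_eq] at h1
      rw [MulAction.Quotient.smul_mk, eq_comm, QuotientGroup.eq, hD,
        Subgroup.mem_subgroupOf] at h1
      have h2 := (Subgroup.mem_inf.1 h1).1
      simpa [mul_assoc] using h2
    · intro hx
      have hxB := (Subgroup.mem_inf.1 hx).2
      ext q
      induction q using QuotientGroup.induction_on with
      | H n =>
        simp only [ff, MonoidHom.comp_apply, MulAction.toPermHom_apply, MulAction.toPerm_apply,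
          Equiv.Perm.coe_one, id_eq]
        rw [MulAction.Quotient.smul_mk, eq_comm, QuotientGroup.eq, hD, Subgroup.mem_subgroupOf]
        have h3 := h.conj_mem_B₁ (N.inv_mem n.2) hxB
        refine Subgroup.mem_inf.2 ⟨?_, ?_⟩
        · have := h.B₁_le_M h3
          simpa [mul_assoc] using this
        · have := h.B₁_le_N h3
          simpa [mul_assoc] using this
  have hrange : ff.range ≤ MulAction.stabilizer (Equiv.Perm (↥N ⧸ D)) ((1 : ↥N) : ↥N ⧸ D) := by
    rintro _ ⟨x, rfl⟩
    rw [MulAction.mem_stabilizer_iff, Equiv.Perm.smul_def]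
    simp only [ff, MonoidHom.comp_apply, MulAction.toPermHom_apply, MulAction.toPerm_apply]
    rw [MulAction.Quotient.smul_mk, eq_comm, QuotientGroup.eq, hD, Subgroup.mem_subgroupOf]
    refine Subgroup.mem_inf.2 ⟨?_, ?_⟩
    · simpa using h.A₁_le_M x.2
    · simpa using h.A₁_le_N x.2
  have hcardq : Nat.card (↥N ⧸ D) = d := by
    rw [← hdN, Subgroup.relIndex, Subgroup.index_eq_card]
  rw [Subgroup.relIndex, ← hker, Subgroup.index_ker]
  have h4 := Subgroup.card_dvd_of_le hrange
  rwa [card_stabilizer_perm_idx2, hcardq] at h4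

end Cfsg.Agent.Lib.Helper92
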