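import Mathlib
import Cfsg.Agent.Lib.Helper92.TW.Defs

/-! Thompson-Wielandt ladder, rung IDX3. -/

set_option autoImplicit false

namespace Cfsg.Agent.Lib.Helper92

open Cfsg.Agent.Lib.Helper28

open scoped Nat

variable {G : Type*} [Group G] {M N A₁ B₁ A₂ B₂ : Subgroup G}

/-- conjugation by `m⁻¹` (`m ∈ M`) as an endomorphism of `A₁` -/
noncomputable def TW.conjA₁ (h : TW M N A₁ B₁ A₂ B₂) (m : ↥M) : ↥A₁ →* ↥A₁ :=
  ((MulAut.conj (m : G)⁻¹).toMonoidHom.comp A₁.subtype).codRestrict A₁ (fun x => by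
    have := h.conj_mem_A₁ (M.inv_mem m.2) x.2
    simpa using this)

theorem TW.conjA₁_coe (h : TW M N A₁ B₁ A₂ B₂) (m : ↥M) (x : ↥A₁) :
    ((h.conjA₁ m x : ↥A₁) : G) = (m : G)⁻¹ * x * m := by
  simp [TW.conjA₁]

theorem TW.conjA₁_surjective (h : TW M N A₁ B₁ A₂ B₂) (m : ↥M) :
    Function.Surjective (h.conjA₁ m) := by
  intro y
  refine ⟨⟨(m : G) * y * (m : G)⁻¹, h.conj_mem_A₁ m.2 y.2⟩, ?_⟩
  apply Subtype.ext
  rw [h.conjA₁_coe]
  simp [mul_assoc]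

theorem TW.relIndex_A₂_A₁_dvd [Finite G] (h : TW M N A₁ B₁ A₂ B₂) (d k : ℕ)
    (hdM : (M ⊓ N).relIndex M = d) (hk : (A₁ ⊓ B₁).relIndex A₁ ∣ k) :
    A₂.relIndex A₁ ∣ k ^ d := by
  classical
  set D : Subgroup ↥M := (M ⊓ N).subgroupOf M with hD
  have hBn : (B₁.subgroupOf A₁).Normal := by
    refine ⟨fun x hx g => ?_⟩
    rw [Subgroup.mem_subgroupOf] at hx ⊢
    have := h.conj_mem_B₁ (h.A₁_le_N g.2) hx
    simpa using this
  let K : ↥M ⧸ D → Subgroup ↥A₁ := fun q => (B₁.subgroupOf A₁).comap (h.conjA₁ q.out)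
  have hKn : ∀ q, (K q).Normal := fun q => hBn.comap _
  have hKi : ∀ q, (K q).index = (A₁ ⊓ B₁).relIndex A₁ := by
    intro q
    rw [Subgroup.index_comap_of_surjective _ (h.conjA₁_surjective _), Subgroup.inf_relIndex_left,
      Subgroup.relIndex]
  let F : ↥A₁ →* ((q : ↥M ⧸ D) → ↥A₁ ⧸ K q) := MonoidHom.pi (fun q => QuotientGroup.mk' (K q))
  have hker : F.ker = A₂.subgroupOf A₁ := by
    ext x
    rw [MonoidHom.mem_ker, Subgroup.mem_subgroupOf]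
    have h1 : F x = 1 ↔ ∀ q : ↥M ⧸ D, ((q.out : ↥M) : G)⁻¹ * x * (q.out : ↥M) ∈ B₁ := by
      rw [funext_iff]
      refine forall_congr' fun q => ?_
      simp only [F, MonoidHom.pi_apply, Pi.one_apply, QuotientGroup.mk'_apply]
      rw [QuotientGroup.eq_one_iff]
      simp only [K]
      rw [Subgroup.mem_comap, Subgroup.mem_subgroupOf, h.conjA₁_coe]
    rw [h1, h.memA₂]
    constructor
    · intro hx
      refine ⟨h.A₁_le_M x.2, fun m hm => Subgroup.mem_inf.2 ⟨h.conj_mem_A₁ hm x.2, ?_⟩⟩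
      obtain ⟨δ, hδ⟩ := QuotientGroup.mk_out_eq_mul D (⟨m⁻¹, M.inv_mem hm⟩ : ↥M)
      have h2 := hx ((⟨m⁻¹, M.inv_mem hm⟩ : ↥M) : ↥M ⧸ D)
      rw [hδ] at h2
      have hδN : ((δ : ↥M) : G) ∈ N := by
        have h7 : (δ : ↥M) ∈ (M ⊓ N).subgroupOf M := δ.2
        rw [Subgroup.mem_subgroupOf] at h7
        exact (Subgroup.mem_inf.1 h7).2
      have h3 := h.conj_mem_B₁ hδN h2
      simpa [mul_assoc] using h3
    · rintro ⟨_, hx⟩ q
      have := (Subgroup.mem_inf.1 (hx _ (M.inv_mem (q.out : ↥M).2))).2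
      simpa using this
  have hcardq : Nat.card (↥M ⧸ D) = d := by
    rw [← hdM, Subgroup.relIndex, Subgroup.index_eq_card]
  have : Fintype (↥M ⧸ D) := Fintype.ofFinite _
  rw [Subgroup.relIndex, ← hker, Subgroup.index_ker]
  have h5 : Nat.card F.range ∣ Nat.card ((q : ↥M ⧸ D) → ↥A₁ ⧸ K q) :=
    Subgroup.card_subgroup_dvd_card _
  rw [Nat.card_pi] at h5
  have h6 : ∏ q : ↥M ⧸ D, Nat.card (↥A₁ ⧸ K q) = ((A₁ ⊓ B₁).relIndex A₁) ^ d := by
    rw [Finset.prod_congr rfl (fun q _ => by rw [← Subgroup.index_eq_card, hKi q]),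
      Finset.prod_const, Finset.card_univ, ← Nat.card_eq_fintype_card, hcardq]
  rw [h6] at h5
  exact h5.trans (pow_dvd_pow_of_dvd hk d)

end Cfsg.Agent.Lib.Helper92
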