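import Mathlib
import Cfsg.Agent.Lib.Helper92.TW.Defs

/-! Thompson-Wielandt ladder, rung KL. -/

set_option autoImplicit false

namespace Cfsg.Agent.Lib.Helper92

open Cfsg.Agent.Lib.Helper28
open scoped Nat commutatorElement

variable {G : Type*} [Group G] {M N A₁ B₁ A₂ B₂ : Subgroup G}

theorem pPrimeGen_le (p : ℕ) (B : Subgroup G) : pPrimeGen p B ≤ B := by
  unfold pPrimeGen
  rw [Subgroup.closure_le]
  intro y hy
  exact hy.1

theorem conj_mem_pPrimeGen {p : ℕ} {B : Subgroup G} {g : G}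
    (hg : ∀ y ∈ B, (orderOf y).Coprime p → g * y * g⁻¹ ∈ B) {x : G} (hx : x ∈ pPrimeGen p B) :
    g * x * g⁻¹ ∈ pPrimeGen p B := by
  have h1 : pPrimeGen p B ≤ (pPrimeGen p B).comap (MulAut.conj g).toMonoidHom := by
    conv_lhs => unfold pPrimeGen
    rw [Subgroup.closure_le]
    intro y hy
    change (MulAut.conj g) y ∈ pPrimeGen p B
    rw [MulAut.conj_apply]
    apply Subgroup.subset_closure
    refine ⟨hg y hy.1 hy.2, ?_⟩
    have : orderOf (g * y * g⁻¹) = orderOf y := by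
      have := (MulAut.conj g).orderOf_eq y
      rwa [MulAut.conj_apply] at this
    rw [this]; exact hy.2
  have := h1 hx
  change (MulAut.conj g) x ∈ pPrimeGen p B at this
  rwa [MulAut.conj_apply] at this

/-- an element `s * y` of order prime to `p`, with `s` in a `p`-group normalizing `B ∋ y`,
lies in `B`. -/
theorem mul_mem_of_coprime {p : ℕ} {T B : Subgroup G} (hT : IsPGroup p T)
    (hTB : T ≤ Subgroup.normalizer (B : Set G)) {s y : G} (hs : s ∈ T) (hy : y ∈ B)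
    (hc : (orderOf (s * y)).Coprime p) : s * y ∈ B := by
  have h1 : ∀ j : ℕ, ∃ b ∈ B, (s * y) ^ j = s ^ j * b := by
    intro j
    induction j with
    | zero => exact ⟨1, B.one_mem, by simp⟩
    | succ j ih =>
      obtain ⟨b, hb, hj⟩ := ih
      refine ⟨s⁻¹ * b * s * y, B.mul_mem ?_ hy, ?_⟩
      · have := TW.conj_mem_of_le_normalizer hTB (T.inv_mem hs) hb
        simpa using this
      · rw [pow_succ, hj, pow_succ]; group
  obtain ⟨k, hk⟩ := hT ⟨s, hs⟩
  have hk' : s ^ (p ^ k) = 1 := by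
    have := congrArg Subtype.val hk
    simpa using this
  obtain ⟨b, hb, hj⟩ := h1 (p ^ k)
  rw [hk', one_mul] at hj
  obtain ⟨m, hm⟩ := exists_pow_eq_self_of_coprime (x := s * y) (n := p ^ k)
    (Nat.Coprime.pow_left k hc.symm)
  rw [← hm, hj]
  exact B.pow_mem hb m

theorem TW.le_A₁_of_commutator_le [Finite G] (h : TW M N A₁ B₁ A₂ B₂) {p : ℕ} [Fact p.Prime]
    (hY : pPrimeGen p B₂ ≠ ⊥) {X : Subgroup G} (hXM : X ≤ M) (hX : ⁅X, A₁⁆ ≤ opIn p A₁) :
    X ≤ A₁ := by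
  have hYN : pPrimeGen p B₂ ≤ N := (pPrimeGen_le p B₂).trans h.B₂_le_N
  have hNY : N ≤ Subgroup.normalizer (pPrimeGen p B₂ : Set G) :=
    TW.le_normalizer_of_conj_mem fun n hn x hx =>
      conj_mem_pPrimeGen (fun y hy _ => h.conj_mem_B₂ hn hy) hx
  have hprim := h.primN _ hY hYN hNY
  have hMT : M ≤ Subgroup.normalizer (opIn p A₁ : Set G) :=
    h.M_le_normalizer_A₁.trans (normalizer_le_normalizer_opIn p A₁)
  have hTB : opIn p A₁ ≤ Subgroup.normalizer (B₂ : Set G) :=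
    ((opIn_le p A₁).trans h.A₁_le_N).trans h.N_le_normalizer_B₂
  -- key claim
  have key : ∀ u ∈ X, ∀ m ∈ M, ∀ y ∈ B₂, (orderOf y).Coprime p →
      (m * u * m⁻¹) * y * (m * u * m⁻¹)⁻¹ ∈ B₂ := by
    intro u hu m hm y hy hc
    have hy' : m⁻¹ * y * m ∈ A₁ := by
      have := h.conj_mem_A₁ (M.inv_mem hm) (h.B₂_le_A₁ hy)
      simpa using this
    have ht : ⁅u, m⁻¹ * y * m⁆ ∈ opIn p A₁ := hX (Subgroup.commutator_mem_commutator hu hy')
    have hs : m * ⁅u, m⁻¹ * y * m⁆ * m⁻¹ ∈ opIn p A₁ :=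
      TW.conj_mem_of_le_normalizer hMT hm ht
    have heq : (m * u * m⁻¹) * y * (m * u * m⁻¹)⁻¹ = (m * ⁅u, m⁻¹ * y * m⁆ * m⁻¹) * y := by
      rw [commutatorElement_def]; group
    rw [heq]
    apply mul_mem_of_coprime (opIn_isPGroup p A₁) hTB hs hy
    rw [← heq]
    have : orderOf ((m * u * m⁻¹) * y * (m * u * m⁻¹)⁻¹) = orderOf y := by
      have := (MulAut.conj (m * u * m⁻¹)).orderOf_eq y
      rwa [MulAut.conj_apply] at this
    rw [this]; exact hc
  intro u hu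
  rw [h.memA₁]
  refine ⟨hXM hu, fun m hm => hprim ?_⟩
  rw [Subgroup.mem_normalizer_iff]
  intro x
  constructor
  · intro hx
    exact conj_mem_pPrimeGen (key u hu m hm) hx
  · intro hx
    have := conj_mem_pPrimeGen (key u⁻¹ (X.inv_mem hu) m hm) hx
    have h2 : m * u⁻¹ * m⁻¹ * (m * u * m⁻¹ * x * (m * u * m⁻¹)⁻¹) * (m * u⁻¹ * m⁻¹)⁻¹ = x := by
      group
    rwa [h2] at this

end Cfsg.Agent.Lib.Helper92
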