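import Mathlib
import Cfsg.Agent.Lib.Helper92.TW.Defs

/-! Thompson-Wielandt ladder, rung SN. -/

set_option autoImplicit false

namespace Cfsg.Agent.Lib.Helper92

open Cfsg.Agent.Lib.Helper28

open scoped Nat Pointwise

variable {G : Type*} [Group G] {M N A₁ B₁ A₂ B₂ : Subgroup G}

theorem TW.false_of_selfNormalizing [Finite G] (h : TW M N A₁ B₁ A₂ B₂) {p : ℕ} [Fact p.Prime]
    {Q Q' : Subgroup G} (hQ : Q ≠ ⊥) (hQp : IsPGroup p Q) (hQ'p : IsPGroup p Q') (hQM : Q ≤ M)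
    (hQN : Q ≤ N) (hMQ : M ≤ Subgroup.normalizer (Q : Set G)) (hQ'N : Q' ≤ N)
    (hNQ' : N ≤ Subgroup.normalizer (Q' : Set G)) (hinf : Q' ⊓ M ≤ Q)
    (hcard : Nat.card Q = Nat.card Q') : False := by
  have hRp : IsPGroup p (Q ⊔ Q' : Subgroup G) :=
    IsPGroup.to_sup_of_normal_right' hQp hQ'p (hQN.trans hNQ')
  have hQR : Q ≤ Q ⊔ Q' := le_sup_left
  have : Group.IsNilpotent ↥(Q ⊔ Q') := hRp.isNilpotent
  have hnc := Group.normalizerCondition_of_isNilpotent (G := ↥(Q ⊔ Q')) (Q.subgroupOf (Q ⊔ Q'))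
  have htop : Q.subgroupOf (Q ⊔ Q') = ⊤ := by
    by_contra hne
    have hlt := hnc (lt_top_iff_ne_top.2 hne)
    obtain ⟨x, hxn, hxQ⟩ := SetLike.exists_of_lt hlt
    apply hxQ
    rw [Subgroup.mem_subgroupOf]
    -- `x` normalizes `Q`
    have hxN : (x : G) ∈ Subgroup.normalizer (Q : Set G) := by
      rw [Subgroup.mem_normalizer_iff] at hxn ⊢
      intro y
      constructor
      · intro hy
        have := (hxn ⟨y, hQR hy⟩).1 (by rw [Subgroup.mem_subgroupOf]; exact hy)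
        rw [Subgroup.mem_subgroupOf] at this
        simpa using this
      · intro hy
        have hyR : y ∈ Q ⊔ Q' := by
          have h1 : (x : G)⁻¹ * ((x : G) * y * (x : G)⁻¹) * (x : G) ∈ Q ⊔ Q' :=
            mul_mem (mul_mem (inv_mem x.2) (hQR hy)) x.2
          simpa [mul_assoc] using h1
        have := (hxn ⟨y, hyR⟩).2 (by rw [Subgroup.mem_subgroupOf]; simpa using hy)
        rw [Subgroup.mem_subgroupOf] at this
        simpa using this
    have hxM : (x : G) ∈ M := h.primM Q hQ hQM hMQ hxN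
    -- decompose
    have hx2 : (x : G) ∈ Q ⊔ Q' := x.2
    have hdec : ∃ q ∈ Q, ∃ q' ∈ Q', q * q' = (x : G) := by
      have : ((Q ⊔ Q' : Subgroup G) : Set G) = (Q : Set G) * (Q' : Set G) :=
        Subgroup.coe_mul_of_left_le_normalizer_right Q Q' (hQN.trans hNQ')
      have hx3 : (x : G) ∈ ((Q ⊔ Q' : Subgroup G) : Set G) := hx2
      rw [this, Set.mem_mul] at hx3
      obtain ⟨q, hq, q', hq', e⟩ := hx3
      exact ⟨q, hq, q', hq', e⟩
    obtain ⟨q, hq, q', hq', e⟩ := hdec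
    have hq'M : q' ∈ M := by
      have : q' = q⁻¹ * (x : G) := by rw [← e]; group
      rw [this]
      exact mul_mem (inv_mem (hQM hq)) hxM
    rw [← e]
    exact mul_mem hq (hinf (Subgroup.mem_inf.2 ⟨hq', hq'M⟩))
  have hRQ : Q ⊔ Q' ≤ Q := Subgroup.subgroupOf_eq_top.1 htop
  have hQ'Q : Q' ≤ Q := le_sup_right.trans hRQ
  have heq : Q' = Q := Subgroup.eq_of_le_of_card_ge hQ'Q hcard.le
  subst heq
  exact h.contra hQ hQM hMQ hNQ'

end Cfsg.Agent.Lib.Helper92
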