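import Mathlib
import Cfsg.Agent.Lib.Helper92.TW.Defs
import Cfsg.Agent.Lib.Helper92.TW.KL
import Cfsg.Agent.Lib.Helper92.TW.SN
import Cfsg.Agent.Lib.Helper92.TW.E0

/-! Thompson-Wielandt ladder, rungs PG and TA: the main theorem in relative form. -/

set_option autoImplicit false

namespace Cfsg.Agent.Lib.Helper92

open Cfsg.Agent.Lib.Helper28
open scoped Nat

variable {G : Type*} [Group G] {M N A₁ B₁ A₂ B₂ : Subgroup G}

theorem commutator_le_opIn {p : ℕ} {X A : Subgroup G} (hXp : IsPGroup p X)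
    (hAX : A ≤ Subgroup.normalizer (X : Set G)) (hXA : X ≤ Subgroup.normalizer (A : Set G)) :
    ⁅X, A⁆ ≤ opIn p A := by
  have h1 : ⁅X, A⁆ ≤ X ⊓ A :=
    le_inf (Subgroup.le_normalizer_iff_commutator_le_left.mp hAX)
      (Subgroup.le_normalizer_iff_commutator_le_right.mp hXA)
  exact h1.trans (le_opIn inf_le_right (le_normalizer_inf' hAX Subgroup.le_normalizer)
    (hXp.to_le inf_le_left))

theorem TW.pPrimeGen_B₂_eq_bot [Finite G] (h : TW M N A₁ B₁ A₂ B₂) {p : ℕ} [Fact p.Prime]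
    (hQ : opIn p M ≠ ⊥) (hcard : Nat.card (opIn p M) = Nat.card (opIn p N)) :
    pPrimeGen p B₂ = ⊥ := by
  by_contra hY
  have hAD : A₁ ≤ M ⊓ N := le_inf h.A₁_le_M h.A₁_le_N
  have h1 : opIn p M ≤ A₁ :=
    h.le_A₁_of_commutator_le hY (opIn_le p M)
      (commutator_le_opIn (opIn_isPGroup p M) (h.A₁_le_M.trans (le_normalizer_opIn p M))
        ((opIn_le p M).trans h.M_le_normalizer_A₁))
  have h2 : opIn p (M ⊓ N) ≤ A₁ :=
    h.le_A₁_of_commutator_le hY ((opIn_le p _).trans inf_le_left)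
      (commutator_le_opIn (opIn_isPGroup p _) (hAD.trans (le_normalizer_opIn p _))
        (((opIn_le p _).trans inf_le_left).trans h.M_le_normalizer_A₁))
  have h3 : opIn p (M ⊓ N) ≤ opIn p A₁ :=
    le_opIn h2 (hAD.trans (le_normalizer_opIn p _)) (opIn_isPGroup p _)
  have h4 : opIn p A₁ ≤ opIn p M :=
    le_opIn ((opIn_le p _).trans h.A₁_le_M)
      (h.M_le_normalizer_A₁.trans (normalizer_le_normalizer_opIn p A₁)) (opIn_isPGroup p _)
  have h5 : opIn p N ⊓ M ≤ opIn p (M ⊓ N) :=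
    le_opIn (le_inf inf_le_right (inf_le_left.trans (opIn_le p N)))
      (le_normalizer_inf' (inf_le_right.trans (le_normalizer_opIn p N))
        (inf_le_left.trans Subgroup.le_normalizer))
      ((opIn_isPGroup p N).to_le inf_le_left)
  exact h.false_of_selfNormalizing hQ (opIn_isPGroup p M) (opIn_isPGroup p N) (opIn_le p M)
    (h1.trans h.A₁_le_N) (le_normalizer_opIn p M) (opIn_le p N) (le_normalizer_opIn p N)
    (h5.trans (h3.trans h4)) hcard

theorem isPGroup_of_pPrimeGen_eq_bot [Finite G] {p : ℕ} [hp : Fact p.Prime] {B : Subgroup G}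
    (hB : pPrimeGen p B = ⊥) : IsPGroup p B := by
  intro x
  obtain ⟨k, m, hm, hkm⟩ := Nat.exists_eq_pow_mul_and_not_dvd (orderOf_pos (x : G)).ne' p
    hp.out.ne_one
  refine ⟨k, ?_⟩
  have h1 : orderOf ((x : G) ^ (p ^ k)) = m := by
    rw [orderOf_pow_of_dvd (pow_pos hp.out.pos k).ne' (hkm ▸ Dvd.intro _ rfl), hkm,
      Nat.mul_div_cancel_left _ (pow_pos hp.out.pos k)]
  have h2 : (x : G) ^ (p ^ k) ∈ pPrimeGen p B := by
    apply Subgroup.subset_closure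
    refine ⟨B.pow_mem x.2 _, ?_⟩
    rw [h1]
    exact ((Nat.Prime.coprime_iff_not_dvd hp.out).mpr hm).symm
  rw [hB, Subgroup.mem_bot] at h2
  exact Subtype.ext (by simpa using h2)

theorem TW.isPGroup_B₂ [Finite G] (h : TW M N A₁ B₁ A₂ B₂) {p : ℕ} [Fact p.Prime]
    (hQ : opIn p M ≠ ⊥) (hcard : Nat.card (opIn p M) = Nat.card (opIn p N)) :
    IsPGroup p B₂ := isPGroup_of_pPrimeGen_eq_bot (h.pPrimeGen_B₂_eq_bot hQ hcard)

theorem eq_bot_of_isPGroup_of_isPGroup [Finite G] {p r : ℕ} [hp : Fact p.Prime]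
    [hr : Fact r.Prime] (hpr : p ≠ r) {B : Subgroup G} (h1 : IsPGroup p B) (h2 : IsPGroup r B) :
    B = ⊥ := by
  obtain ⟨a, ha⟩ := IsPGroup.iff_card.mp h1
  obtain ⟨b, hb⟩ := IsPGroup.iff_card.mp h2
  have hc : (p ^ a).Coprime (r ^ b) :=
    Nat.Coprime.pow a b ((Nat.coprime_primes hp.out hr.out).mpr hpr)
  rw [← ha, ← hb, Nat.coprime_self] at hc
  exact Subgroup.card_eq_one.mp hc

theorem ne_bot_of_card_eq {A B : Subgroup G} (h : Nat.card A = Nat.card B) (hA : A ≠ ⊥) :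
    B ≠ ⊥ := by
  intro hB
  apply hA
  rw [hB, Subgroup.card_bot] at h
  exact Subgroup.card_eq_one.mp h

/-- if all `O_r(M)` with `r ≠ p` and the layer vanish then `F*(M) = O_p(M)` -/
theorem fstarIn_eq_opIn_of [Finite G] {p : ℕ} [hp : Fact p.Prime] {M : Subgroup G}
    (hl : layIn M = ⊥) (hr : ∀ r : ℕ, r.Prime → r ≠ p → opIn r M = ⊥) :
    fstarIn M = opIn p M := by
  rw [fstarIn_eq, hl, bot_sup_eq, fitIn_eq_iSup_opIn]
  apply le_antisymm
  · refine iSup_le fun r => ?_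
    by_cases h : (r : ℕ) = p
    · rw [h]
    · rw [hr r r.2 h]; exact bot_le
  · exact le_iSup (fun q : Nat.Primes => opIn (q : ℕ) M) ⟨p, hp.out⟩

theorem layIn_le_of_normal {A M : Subgroup G} (hAM : A ≤ M)
    (hn : M ≤ Subgroup.normalizer (A : Set G)) : layIn A ≤ layIn M :=
  layIn_le_of_forall fun _ hK => (hK.of_normal hAM hn).le_layIn

theorem opIn_le_of_normal [Finite G] (r : ℕ) {A M : Subgroup G} (hAM : A ≤ M)
    (hn : M ≤ Subgroup.normalizer (A : Set G)) : opIn r A ≤ opIn r M :=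
  le_opIn ((opIn_le r A).trans hAM) (hn.trans (normalizer_le_normalizer_opIn r A))
    (opIn_isPGroup r A)

theorem TW.main [Finite G] (h : TW M N A₁ B₁ A₂ B₂)
    (hcard : ∀ p : ℕ, Nat.card (opIn p M) = Nat.card (opIn p N)) (hA : A₂ ≠ ⊥) (hB : B₂ ≠ ⊥) :
    ∃ p : ℕ, p.Prime ∧ IsPGroup p A₂ ∧ IsPGroup p B₂ ∧ fstarIn M = opIn p M ∧
      fstarIn N = opIn p N ∧ fstarIn A₁ = opIn p A₁ ∧ fstarIn B₁ = opIn p B₁ := by
  have hlM : layIn M = ⊥ := h.layIn_eq_bot hA hB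
  have hlN : layIn N = ⊥ := h.symm.layIn_eq_bot hB hA
  have hMne : M ≠ ⊥ := fun hM => hA (eq_bot_iff.mpr (hM ▸ h.A₂_le_M))
  have hF : fitIn M ≠ ⊥ := by
    intro hF
    apply hMne
    apply eq_bot_of_fstarIn_eq_bot
    rw [fstarIn_eq, hlM, hF, bot_sup_eq]
  obtain ⟨p, hp⟩ : ∃ p : Nat.Primes, opIn (p : ℕ) M ≠ ⊥ := by
    by_contra hcon
    push Not at hcon
    apply hF
    rw [fitIn_eq_iSup_opIn]
    simp [hcon]
  have : Fact (p : ℕ).Prime := ⟨p.2⟩
  have hB2 : IsPGroup p B₂ := h.isPGroup_B₂ hp (hcard p)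
  have hA2 : IsPGroup p A₂ :=
    h.symm.isPGroup_B₂ (ne_bot_of_card_eq (hcard p) hp) (hcard p).symm
  have hrM : ∀ r : ℕ, r.Prime → r ≠ p → opIn r M = ⊥ := by
    intro r hr hrp
    by_contra hne
    have : Fact r.Prime := ⟨hr⟩
    exact hB (eq_bot_of_isPGroup_of_isPGroup hrp (h.isPGroup_B₂ hne (hcard r)) hB2)
  have hrN : ∀ r : ℕ, r.Prime → r ≠ p → opIn r N = ⊥ := by
    intro r hr hrp
    by_contra hne
    exact ne_bot_of_card_eq (hcard r).symm hne (hrM r hr hrp)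
  refine ⟨p, p.2, hA2, hB2, fstarIn_eq_opIn_of hlM hrM, fstarIn_eq_opIn_of hlN hrN,
    fstarIn_eq_opIn_of ?_ ?_, fstarIn_eq_opIn_of ?_ ?_⟩
  · exact eq_bot_iff.mpr (hlM ▸ layIn_le_of_normal h.A₁_le_M h.M_le_normalizer_A₁)
  · intro r hr hrp
    exact eq_bot_iff.mpr (hrM r hr hrp ▸ opIn_le_of_normal r h.A₁_le_M h.M_le_normalizer_A₁)
  · exact eq_bot_iff.mpr (hlN ▸ layIn_le_of_normal h.B₁_le_N h.N_le_normalizer_B₁)
  · intro r hr hrp
    exact eq_bot_iff.mpr (hrN r hr hrp ▸ opIn_le_of_normal r h.B₁_le_N h.N_le_normalizer_B₁)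

end Cfsg.Agent.Lib.Helper92
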