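import Mathlib
import Cfsg.Agent.Lib.Helper92.TW.Defs
import Cfsg.Agent.Lib.Helper92.TW.PG
import Cfsg.Agent.Lib.Helper92.TW.IDX1
import Cfsg.Agent.Lib.Helper92.TW.IDX2
import Cfsg.Agent.Lib.Helper92.TW.IDX3
import Cfsg.Agent.Lib.Helper92.TW.CORE
import Cfsg.Agent.Lib.Helper92.TW.ACT

/-! Thompson-Wielandt ladder: assembly. -/

set_option autoImplicit false

namespace Cfsg.Agent.Lib.Helper92

open Cfsg.Agent.Lib.Helper28
open scoped Nat

variable {G : Type*} [Group G] {M N A₁ B₁ A₂ B₂ : Subgroup G}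

theorem TW.relIndex_A₂_dvd [Finite G] (h : TW M N A₁ B₁ A₂ B₂) (d : ℕ)
    (hdM : (M ⊓ N).relIndex M = d) (hdN : (M ⊓ N).relIndex N = d) :
    A₂.relIndex M ∣ d ! * ((d - 1)!) ^ d := by
  rw [← Subgroup.relIndex_mul_relIndex A₂ A₁ M h.A₂_le_A₁ h.A₁_le_M, mul_comm]
  exact mul_dvd_mul (h.relIndex_A₁_dvd d hdM)
    (h.relIndex_A₂_A₁_dvd d _ hdM (h.relIndex_inf_dvd d hdN))

theorem TW.exists_P [Finite G] (h : TW M N A₁ B₁ A₂ B₂)
    (hcard : ∀ p : ℕ, Nat.card (opIn p M) = Nat.card (opIn p N))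
    (hMN : Nat.card M = Nat.card N) (d : ℕ)
    (hdM : (M ⊓ N).relIndex M = d) (hdN : (M ⊓ N).relIndex N = d) :
    ∃ p : ℕ, p.Prime ∧ ∃ P : Subgroup G, P ≤ M ⊓ N ∧ M ≤ Subgroup.normalizer (P : Set G) ∧
      IsPGroup p P ∧ P.relIndex M ∣ d ! * ((d - 1)!) ^ d ∧ (P = ⊥ ∨ fstarIn M = opIn p M) := by
  have hbot : M ≤ Subgroup.normalizer ((⊥ : Subgroup G) : Set G) := by
    apply TW.le_normalizer_of_conj_mem
    intro g _ x hx
    rw [Subgroup.mem_bot] at hx ⊢
    rw [hx]; simp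
  by_cases hA : A₂ = ⊥
  · refine ⟨2, Nat.prime_two, ⊥, bot_le, hbot, IsPGroup.of_bot, ?_, Or.inl rfl⟩
    have := h.relIndex_A₂_dvd d hdM hdN
    rwa [hA] at this
  by_cases hB : B₂ = ⊥
  · refine ⟨2, Nat.prime_two, ⊥, bot_le, hbot, IsPGroup.of_bot, ?_, Or.inl rfl⟩
    have := h.symm.relIndex_A₂_dvd d (by rwa [inf_comm]) (by rwa [inf_comm])
    rw [hB, Subgroup.relIndex_bot_left] at this
    rwa [Subgroup.relIndex_bot_left, hMN]
  obtain ⟨p, hp, hA2, -, hF, -⟩ := h.main hcard hA hB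
  exact ⟨p, hp, A₂, le_inf h.A₂_le_M h.A₂_le_N, h.M_le_normalizer_A₂, hA2,
    h.relIndex_A₂_dvd d hdM hdN, Or.inr hF⟩

theorem card_map_conj (M : Subgroup G) (g : G) :
    Nat.card (M.map (MulAut.conj g).toMonoidHom) = Nat.card M :=
  (Nat.card_congr (M.equivMapOfInjective _ (MulAut.conj g).injective).toEquiv).symm

theorem le_normalizer_map_conj {M T : Subgroup G} (g : G)
    (h : M ≤ Subgroup.normalizer (T : Set G)) :
    M.map (MulAut.conj g).toMonoidHom ≤
      Subgroup.normalizer ((T.map (MulAut.conj g).toMonoidHom : Subgroup G) : Set G) := by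
  apply TW.le_normalizer_of_conj_mem
  rintro _ ⟨m, hm, rfl⟩ _ ⟨t, ht, rfl⟩
  refine ⟨m * t * m⁻¹, TW.conj_mem_of_le_normalizer h hm ht, ?_⟩
  simp [mul_assoc]

theorem TW.opIn_inf_eq_bot [Finite G] (h : TW M N A₁ B₁ A₂ B₂) {p : ℕ} [Fact p.Prime] (g : G)
    (hg : N = M.map (MulAut.conj g).toMonoidHom) (hle : opIn p (M ⊓ N) ≤ A₁) :
    opIn p (M ⊓ N) = ⊥ := by
  have hAD : A₁ ≤ M ⊓ N := le_inf h.A₁_le_M h.A₁_le_N
  have e : opIn p (M ⊓ N) = opIn p A₁ := by
    apply le_antisymm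
    · exact le_opIn hle (hAD.trans (le_normalizer_opIn p _)) (opIn_isPGroup p _)
    · exact opIn_le_of_normal p hAD (inf_le_left.trans h.M_le_normalizer_A₁)
  have hMT : M ≤ Subgroup.normalizer (opIn p (M ⊓ N) : Set G) := by
    rw [e]
    exact h.M_le_normalizer_A₁.trans (normalizer_le_normalizer_opIn p A₁)
  by_contra hne
  have hNT := le_normalizer_map_conj g hMT
  rw [← hg] at hNT
  have hT'N : (opIn p (M ⊓ N)).map (MulAut.conj g).toMonoidHom ≤ N := by
    rw [hg]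
    exact Subgroup.map_mono ((opIn_le p _).trans inf_le_left)
  have hT'p : IsPGroup p ((opIn p (M ⊓ N)).map (MulAut.conj g).toMonoidHom) :=
    (opIn_isPGroup p _).map _
  refine h.false_of_selfNormalizing hne (opIn_isPGroup p _) hT'p ((opIn_le p _).trans inf_le_left)
    ((opIn_le p _).trans inf_le_right) hMT hT'N hNT ?_ (card_map_conj _ g).symm
  exact le_opIn (le_inf inf_le_right (inf_le_left.trans hT'N))
    (le_normalizer_inf' (inf_le_right.trans hNT) (inf_le_left.trans Subgroup.le_normalizer))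
    (hT'p.to_le inf_le_left)

theorem genFit_eq_of_fstarIn_eq {p : ℕ} {M : Subgroup G} (h : fstarIn M = opIn p M) :
    Cfsg.generalizedFittingSubgroup ↥M = Cfsg.pCore p ↥M :=
  Subgroup.map_injective M.subtype_injective h

theorem fitting_eq_bot_of_opIn [Finite G] {D : Subgroup G}
    (h : ∀ p : ℕ, p.Prime → opIn p D = ⊥) : Cfsg.fittingSubgroup ↥D = ⊥ := by
  have h1 : fitIn D = ⊥ := by
    rw [fitIn_eq_iSup_opIn]
    simp [fun p : Nat.Primes => h p p.2]
  exact (Subgroup.map_eq_bot_iff_of_injective _ D.subtype_injective).mp h1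

/-- the Thompson-Wielandt configuration of a primitive action -/
theorem exists_TW_of_action {Ω : Type*} [Finite G] [MulAction G Ω] [FaithfulSMul G Ω] [Finite Ω]
    (hprim : MulAction.IsPreprimitive G Ω) (a b : Ω) (d : ℕ)
    (hd : Nat.card (MulAction.orbit (MulAction.stabilizer G a) b) = d) (h2 : 2 ≤ d) :
    ∃ B₁ A₂ B₂ : Subgroup G,
      TW (MulAction.stabilizer G a) (MulAction.stabilizer G b)
        (coreIn (MulAction.stabilizer G a) (MulAction.stabilizer G a ⊓ MulAction.stabilizer G b))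
        B₁ A₂ B₂ ∧
      (∀ p : ℕ, Nat.card (opIn p (MulAction.stabilizer G a)) =
        Nat.card (opIn p (MulAction.stabilizer G b))) ∧
      Nat.card (MulAction.stabilizer G a) = Nat.card (MulAction.stabilizer G b) ∧
      (∃ g : G, MulAction.stabilizer G b =
        (MulAction.stabilizer G a).map (MulAut.conj g).toMonoidHom) ∧
      (MulAction.stabilizer G a ⊓ MulAction.stabilizer G b).relIndex
        (MulAction.stabilizer G a) = d ∧
      (MulAction.stabilizer G a ⊓ MulAction.stabilizer G b).relIndex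
        (MulAction.stabilizer G b) = d := by
  obtain ⟨hM, hN, hne, hcM, hcN, ⟨g, hg⟩, hdM, hdN⟩ := exists_of_action hprim a b d hd h2
  refine ⟨_, _, _, TW.of_isCoatom hM hN hne hcM hcN, ?_, ?_, ⟨g, hg⟩, hdM, hdN⟩
  · intro p
    rw [hg, card_opIn_conj]
  · rw [hg, card_map_conj]

end Cfsg.Agent.Lib.Helper92
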